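import Cfsg.Agent.Characters.Core
import Mathlib.LinearAlgebra.PID
import Mathlib.Analysis.Complex.Polynomial.Basic

/-!
# A commutant containing `2 k` anticommuting invertible matrices (helper791, task F1 of S4578)

* `isCharacter_idem` : `g ↦ tr (f g * E)` is a character, `E` an idempotent commuting with `f`;
* `exists_div` : `f` commutes with `2 k` anticommuting matrices with non-zero scalar squares: `tr f` is `2 ^ k` times a character.
-/

set_option autoImplicit false

namespace Cfsg.Agent.H791.Spin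

open Cfsg Matrix

/-- the representation of a homomorphism to invertible matrices -/
noncomputable def repOf {G : Type*} [Group G] {ι : Type*} [Fintype ι] [DecidableEq ι] (f : G →* (Matrix ι ι ℂ)ˣ) :
    Representation ℂ G (ι → ℂ) where
  toFun g := Matrix.toLin' (f g : Matrix ι ι ℂ)
  map_one' := by rw [map_one, Units.val_one, Matrix.toLin'_one]; rfl
  map_mul' g h := by rw [map_mul, Units.val_mul, Matrix.toLin'_mul]; rfl

theorem isCharacter_idem {G : Type*} [Group G] {ι : Type*} [Fintype ι] [DecidableEq ι]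
    (f : G →* (Matrix ι ι ℂ)ˣ) (E : Matrix ι ι ℂ) (hE : E * E = E)
    (hc : ∀ g, E * (f g : Matrix ι ι ℂ) = (f g : Matrix ι ι ℂ) * E) :
    IsCharacter G (fun g => Matrix.trace ((f g : Matrix ι ι ℂ) * E)) := by
  set W := LinearMap.range (Matrix.toLin' E) with hW
  have hid : ∀ x ∈ W, Matrix.toLin' E x = x := by
    rintro _ ⟨y, rfl⟩
    rw [← LinearMap.comp_apply, ← Matrix.toLin'_mul, hE]
  have hinv : ∀ g, ∀ x ∈ W, Matrix.toLin' (f g : Matrix ι ι ℂ) x ∈ W := by
    rintro g _ ⟨y, rfl⟩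
    refine ⟨Matrix.toLin' (f g : Matrix ι ι ℂ) y, ?_⟩
    rw [← LinearMap.comp_apply, ← LinearMap.comp_apply, ← Matrix.toLin'_mul, ← Matrix.toLin'_mul, hc]
  let ρ : Representation ℂ G W :=
    { toFun := fun g => (Matrix.toLin' (f g : Matrix ι ι ℂ)).restrict (hinv g)
      map_one' := by
        ext x
        simp
      map_mul' := fun g h => by
        ext x
        simp [Matrix.toLin'_mul] }
  have h := Cfsg.Agent.Characters.Core.isCharacter_of_rep ρ
  convert h using 1
  funext g
  change _ = LinearMap.trace ℂ W ((Matrix.toLin' (f g : Matrix ι ι ℂ)).restrict (hinv g))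
  have h1 : ∀ x, Matrix.toLin' ((f g : Matrix ι ι ℂ) * E) x ∈ W := by
    intro x
    rw [Matrix.toLin'_mul, LinearMap.comp_apply]
    exact hinv g _ ⟨x, rfl⟩
  have h2 := LinearMap.trace_restrict_eq_of_forall_mem W (Matrix.toLin' ((f g : Matrix ι ι ℂ) * E)) h1
  have h3 : (Matrix.toLin' ((f g : Matrix ι ι ℂ) * E)).restrict (fun x (_ : x ∈ W) => h1 x) =
      (Matrix.toLin' (f g : Matrix ι ι ℂ)).restrict (hinv g) := by
    ext1 x
    apply Subtype.ext
    change Matrix.toLin' ((f g : Matrix ι ι ℂ) * E) (x : ι → ℂ) = Matrix.toLin' (f g : Matrix ι ι ℂ) x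
    rw [Matrix.toLin'_mul, LinearMap.comp_apply, hid _ x.2]
  rw [h3] at h2
  rw [h2, Matrix.trace_toLin'_eq]

theorem exists_step {G : Type*} [Group G] {ι : Type*} [Fintype ι] [DecidableEq ι]
    (f : G →* (Matrix ι ι ℂ)ˣ) (k : ℕ) (A : Fin (2 * k) → Matrix ι ι ℂ)
    (hsq : ∀ i, ∃ c : ℂ, c ≠ 0 ∧ A i * A i = c • (1 : Matrix ι ι ℂ))
    (hac : ∀ i j, i ≠ j → A i * A j = -(A j * A i))
    (hcomm : ∀ i g, A i * (f g : Matrix ι ι ℂ) = (f g : Matrix ι ι ℂ) * A i) (j : ℕ) (hj : j ≤ k) :
    ∃ E : Matrix ι ι ℂ, E * E = E ∧ (∀ g, E * (f g : Matrix ι ι ℂ) = (f g : Matrix ι ι ℂ) * E) ∧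
      (∀ i : Fin (2 * k), 2 * j ≤ i → A i * E = E * A i) ∧
      ∀ g, Matrix.trace (f g : Matrix ι ι ℂ) = 2 ^ j * Matrix.trace ((f g : Matrix ι ι ℂ) * E) := by
  induction j with
  | zero =>
    exact ⟨1, mul_one _, fun g => by rw [one_mul, mul_one], fun i _ => by rw [one_mul, mul_one],
      fun g => by rw [pow_zero, one_mul, mul_one]⟩
  | succ j ih =>
    obtain ⟨E, h1, h2, h3, h4⟩ := ih (by omega)
    set x : Fin (2 * k) := ⟨2 * j, by omega⟩ with hx
    set y : Fin (2 * k) := ⟨2 * j + 1, by omega⟩ with hy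
    have hxy : x ≠ y := by
      intro h
      have := congrArg Fin.val h
      simp [hx, hy] at this
    obtain ⟨a, ha, hax⟩ := hsq x
    obtain ⟨b, hb, hby⟩ := hsq y
    obtain ⟨s, hs⟩ := IsAlgClosed.exists_pow_nat_eq (-(a * b))⁻¹ (show 0 < 2 by norm_num)
    have hanti := hac x y hxy
    have hT : (A x * A y) * (A x * A y) = (-(a * b)) • (1 : Matrix ι ι ℂ) := by
      calc (A x * A y) * (A x * A y) = -((A x * A x) * (A y * A y)) := by
            have : A y * A x = -(A x * A y) := by rw [hanti, neg_neg]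
            calc (A x * A y) * (A x * A y) = A x * (A y * A x) * A y := by simp only [mul_assoc]
              _ = -((A x * A x) * (A y * A y)) := by
                rw [this, mul_neg, neg_mul]
                simp only [mul_assoc]
        _ = (-(a * b)) • (1 : Matrix ι ι ℂ) := by
            rw [hax, hby, smul_mul_smul_comm, mul_one, neg_smul]
    set U : Matrix ι ι ℂ := s • (A x * A y) with hU
    have hU2 : U * U = 1 := by
      rw [hU, smul_mul_smul_comm, hT, smul_smul, ← sq, hs, inv_mul_cancel₀ (neg_ne_zero.2 (mul_ne_zero ha hb)), one_smul]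
    -- commutation
    have cU : ∀ M : Matrix ι ι ℂ, (A x * A y) * M = M * (A x * A y) → U * M = M * U := by
      intro M hM
      rw [hU, smul_mul_assoc, mul_smul_comm, hM]
    set e : Matrix ι ι ℂ := (2⁻¹ : ℂ) • (1 + U) with he
    have ce : ∀ M : Matrix ι ι ℂ, U * M = M * U → e * M = M * e := by
      intro M hM
      rw [he, smul_mul_assoc, mul_smul_comm, add_mul, mul_add, one_mul, mul_one, hM]
    have hee : e * e = e := by
      rw [he, smul_mul_smul_comm, add_mul, mul_add, mul_add, hU2, one_mul, mul_one, one_mul]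
      have : (1 + U + (U + 1)) = (2 : ℂ) • (1 + U) := by
        rw [two_smul]
        abel
      rw [this, smul_smul]
      norm_num
    have hUf : ∀ g, U * (f g : Matrix ι ι ℂ) = (f g : Matrix ι ι ℂ) * U := fun g => cU _ (by
      rw [mul_assoc, hcomm y, ← mul_assoc, hcomm x, mul_assoc])
    have hUE : U * E = E * U := cU _ (by
      rw [mul_assoc, h3 y (by simp [hy]), ← mul_assoc, h3 x (by simp [hx]), mul_assoc])
    have heE := ce E hUE
    have hxU : A x * U = -(U * A x) := by
      rw [hU, mul_smul_comm, smul_mul_assoc, ← smul_neg]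
      congr 1
      calc A x * (A x * A y) = A x * -(A y * A x) := by rw [hanti]
        _ = -(A x * A y * A x) := by rw [mul_neg, mul_assoc]
    have hxe : A x * e = (1 - e) * A x := by
      rw [he, mul_smul_comm, mul_add, mul_one, hxU]
      have : (1 : Matrix ι ι ℂ) - (2⁻¹ : ℂ) • (1 + U) = (2⁻¹ : ℂ) • (1 - U) := by
        have h0 : (1 : Matrix ι ι ℂ) = (2⁻¹ : ℂ) • (1 + 1) := by
          rw [← two_smul ℂ (1 : Matrix ι ι ℂ), smul_smul]
          norm_num
        conv_lhs => rw [h0]
        rw [← smul_sub]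
        congr 1
        rw [← h0]
        abel
      have h8 : (2⁻¹ : ℂ) • (1 - U) * A x = (2⁻¹ : ℂ) • ((1 - U) * A x) := Matrix.smul_mul _ _ _
      rw [this, h8, sub_mul, one_mul, sub_eq_add_neg]
    refine ⟨E * e, ?_, ?_, ?_, ?_⟩
    · rw [mul_assoc, ← mul_assoc e E e, heE, mul_assoc E e e, hee, ← mul_assoc, h1]
    · intro g
      rw [mul_assoc, ce _ (hUf g), ← mul_assoc, h2, mul_assoc]
    · intro i hi
      have hix : i ≠ x := by
        rintro rfl
        simp only [hx] at hi
        omega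
      have hiy : i ≠ y := by
        rintro rfl
        simp only [hy] at hi
        omega
      have hiU : U * A i = A i * U := cU _ (by
        rw [mul_assoc, hac y i hiy.symm, mul_neg, ← mul_assoc, hac x i hix.symm, neg_mul, neg_neg, mul_assoc])
      rw [← mul_assoc, h3 i (by omega), mul_assoc, ← ce _ hiU, mul_assoc]
    · intro g
      have key : Matrix.trace ((f g : Matrix ι ι ℂ) * E * (1 - e)) = Matrix.trace ((f g : Matrix ι ι ℂ) * E * e) := by
        have hinv : A x * (a⁻¹ • A x) = 1 := by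
          rw [mul_smul_comm, hax, smul_smul, inv_mul_cancel₀ ha, one_smul]
        have hinv' : (a⁻¹ • A x) * A x = 1 := by
          rw [smul_mul_assoc, hax, smul_smul, inv_mul_cancel₀ ha, one_smul]
        have h5 : (1 - e) = A x * e * (a⁻¹ • A x) := by
          rw [hxe, mul_assoc, hinv, mul_one]
        have h6 : (f g : Matrix ι ι ℂ) * E * A x = A x * ((f g : Matrix ι ι ℂ) * E) := by
          rw [mul_assoc, ← h3 x (by simp [hx]), ← mul_assoc, ← hcomm, mul_assoc]
        have h9 : (a⁻¹ • A x) * ((f g : Matrix ι ι ℂ) * E) = ((f g : Matrix ι ι ℂ) * E) * (a⁻¹ • A x) := by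
          rw [smul_mul_assoc, mul_smul_comm, h6]
        calc Matrix.trace ((f g : Matrix ι ι ℂ) * E * (1 - e)) =
            Matrix.trace ((f g : Matrix ι ι ℂ) * E * (A x * e) * (a⁻¹ • A x)) := by rw [h5, mul_assoc _ (A x * e)]
          _ = Matrix.trace ((a⁻¹ • A x) * ((f g : Matrix ι ι ℂ) * E * (A x * e))) := Matrix.trace_mul_comm _ _
          _ = Matrix.trace ((f g : Matrix ι ι ℂ) * E * e) := by
            rw [← mul_assoc, h9, mul_assoc ((f g : Matrix ι ι ℂ) * E), ← mul_assoc (a⁻¹ • A x), hinv', one_mul]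
      have h7 : Matrix.trace ((f g : Matrix ι ι ℂ) * E) =
          Matrix.trace ((f g : Matrix ι ι ℂ) * E * e) + Matrix.trace ((f g : Matrix ι ι ℂ) * E * (1 - e)) := by
        rw [← Matrix.trace_add, ← mul_add, add_sub_cancel, mul_one]
      rw [h4 g, h7, key, pow_succ, ← mul_assoc (f g : Matrix ι ι ℂ) E e]
      ring

/-- **A commutant containing `2 k` anticommuting invertible matrices.** -/
theorem exists_div {G : Type*} [Group G] {ι : Type*} [Fintype ι] [DecidableEq ι]
    (f : G →* (Matrix ι ι ℂ)ˣ) (k : ℕ) (A : Fin (2 * k) → Matrix ι ι ℂ)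
    (hsq : ∀ i, ∃ c : ℂ, c ≠ 0 ∧ A i * A i = c • (1 : Matrix ι ι ℂ))
    (hac : ∀ i j, i ≠ j → A i * A j = -(A j * A i))
    (hcomm : ∀ i g, A i * (f g : Matrix ι ι ℂ) = (f g : Matrix ι ι ℂ) * A i) :
    ∃ θ : G → ℂ, IsCharacter G θ ∧ ∀ g, Matrix.trace (f g : Matrix ι ι ℂ) = 2 ^ k * θ g := by
  obtain ⟨E, h1, h2, -, h4⟩ := exists_step f k A hsq hac hcomm k le_rfl
  exact ⟨_, isCharacter_idem f E h1 h2, h4⟩

end Cfsg.Agent.H791.Spin
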